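import Cfsg.Agent.Linear.Dickson.Main
import Cfsg.Agent.Linear.Dickson.Maximal
import Cfsg.Agent.Linear.Dickson.MaxExtra
import Cfsg.Agent.H34.Klein
import Cfsg.Agent.PGroups.CyclicMaximal

/-!
In `PSL(2, 13)` and `SL(2, 13)` the normaliser of a subgroup that is not normal is maximal.
-/

set_option autoImplicit false
set_option linter.unusedSectionVars false
set_option linter.style.haveILetI false

namespace Cfsg.Agent.H65.PSLThirteen

open Matrix Cfsg.Agent.Linear Cfsg.Agent.Linear.Dickson

/-- The preimage of a maximal subgroup is maximal. -/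
theorem isCoatom_comap {G Q : Type*} [Group G] [Group Q] (f : G →* Q) (hf : Function.Surjective f)
    {M : Subgroup Q} (hM : IsCoatom M) : IsCoatom (M.comap f) := by
  refine ⟨fun h => hM.1 ?_, fun X hX => ?_⟩
  · rw [← Subgroup.map_comap_eq_self_of_surjective hf M, h, Subgroup.map_top_of_surjective f hf]
  · have hk : f.ker ≤ X := fun x hx => hX.le (by
      rw [Subgroup.mem_comap, MonoidHom.mem_ker.mp hx]
      exact one_mem M)
    have hXe : (X.map f).comap f = X := by
      rw [Subgroup.comap_map_eq, sup_eq_left.mpr hk]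
    have hlt : M < X.map f := by
      refine lt_of_le_of_ne ?_ fun e => hX.ne ?_
      · rw [← Subgroup.map_comap_eq_self_of_surjective hf M]
        exact Subgroup.map_mono hX.le
      · rw [e, hXe]
    rw [← hXe, hM.2 _ hlt, Subgroup.comap_top]

theorem coatom_of_le {G : Type*} [Group G] {M N : Subgroup G} (hM : IsCoatom M) (h : M ≤ N)
    (hN : N ≠ ⊤) : IsCoatom N := by
  rcases lt_or_eq_of_le h with h' | h'
  · exact absurd (hM.2 N h') hN
  · exact h' ▸ hM

theorem mem_of_pow_card_eq_one {G : Type*} [Group G] [Finite G] {A C : Subgroup G} (hA : IsCyclic ↥A)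
    (hC : C ≤ A) {x : G} (hx : x ∈ A) (h : x ^ Nat.card ↥C = 1) : x ∈ C := by
  haveI := hA
  set D := C ⊔ Subgroup.zpowers x with hD
  have hDA : D ≤ A := sup_le hC (Subgroup.zpowers_le.mpr hx)
  haveI : IsCyclic ↥D := Subgroup.isCyclic_of_le hDA
  have hexp : ∀ y ∈ D, y ^ Nat.card ↥C = 1 := by
    have hcomm : ∀ a ∈ A, ∀ b ∈ A, Commute a b := fun a ha b hb =>
      PGroups.comm_of_isMulCommutative (inferInstance : IsMulCommutative ↥A) ha hb
    intro y hy
    let K : Subgroup G :=
      { carrier := {y | y ∈ A ∧ y ^ Nat.card ↥C = 1}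
        mul_mem' := fun {a b} ha hb => ⟨mul_mem ha.1 hb.1, by
          rw [(hcomm a ha.1 b hb.1).mul_pow, ha.2, hb.2, one_mul]⟩
        one_mem' := ⟨one_mem _, one_pow _⟩
        inv_mem' := fun {a} ha => ⟨inv_mem ha.1, by rw [inv_pow, ha.2, inv_one]⟩ }
    have : D ≤ K := sup_le (fun c hc => ⟨hC hc,
        congrArg Subtype.val (pow_card_eq_one' (G := ↥C) (x := ⟨c, hc⟩))⟩)
      (Subgroup.zpowers_le.mpr ⟨hx, h⟩)
    exact (this hy).2
  have hcard : Nat.card ↥D ∣ Nat.card ↥C := by
    rw [← IsCyclic.exponent_eq_card]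
    exact Monoid.exponent_dvd_of_forall_pow_eq_one fun y => Subtype.ext (hexp _ y.2)
  have : C = D := Subgroup.eq_of_le_of_card_ge le_sup_left (Nat.le_of_dvd Nat.card_pos hcard)
  rw [this]
  exact Subgroup.mem_sup_right (Subgroup.mem_zpowers x)

variable {F : Type*} [Field F] [Fintype F]

local notation "P2" => Matrix.ProjectiveSpecialLinearGroup (Fin 2) F

theorem card_psl (hF : Fintype.card F = 13) : Nat.card P2 = 1092 := by
  have h := card_PSL_two_mul (F := F)
  rw [hF, show Nat.gcd 2 (13 - 1) = 2 from rfl, show 13 * (13 ^ 2 - 1) = 2184 from rfl] at h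
  omega

theorem charP_thirteen (hF : Fintype.card F = 13) : CharP F 13 := by
  haveI : Fact (Nat.Prime 13) := ⟨by norm_num⟩
  exact charP_of_card_eq_prime hF

theorem not_square_two (hF : Fintype.card F = 13) : ¬ IsSquare (2 : F) := by
  rw [FiniteField.isSquare_two_iff, hF]
  norm_num

theorem card_torus (hF : Fintype.card F = 13) {a : P2} (ha : ¬ IsUni a) :
    Nat.card (cen a) = 6 ∨ Nat.card (cen a) = 7 := by
  have hz : Nat.card (Subgroup.center (Matrix.SpecialLinearGroup (Fin 2) F)) = 2 := by
    rw [card_center_two_dvd, hF]; rfl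
  rcases card_cen_torus ha with e | e <;> rw [hz, hF] at e <;> omega

theorem coatom_torus (hF : Fintype.card F = 13) {a : P2} (ha : ¬ IsUni a) :
    IsCoatom (Subgroup.normalizer ((cen a) : Set P2)) := by
  refine isCoatom_torus ha ?_ (by omega) (by omega) (by omega) fun _ => by omega
  rcases card_torus hF ha with h | h <;> omega

theorem normalizer_ne_top (_hF : Fintype.card F = 13) {A : Subgroup P2} (hA : ¬ A.Normal) :
    Subgroup.normalizer (A : Set P2) ≠ ⊤ := fun h => hA (Subgroup.normalizer_eq_top_iff.mp h)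

/-- Subgroups of a torus normaliser containing the squares of the torus are normal in it. -/
theorem le_normalizer_of_squares {a : P2} (ha : ¬ IsUni a) {A : Subgroup P2}
    (hA : A ≤ Subgroup.normalizer ((cen a) : Set P2)) (hsq : A ≤ cen a ∨ ∀ g ∈ cen a, g * g ∈ A) :
    Subgroup.normalizer ((cen a) : Set P2) ≤ Subgroup.normalizer (A : Set P2) := by
  intro g hg
  have key : ∀ g ∈ Subgroup.normalizer ((cen a) : Set P2), ∀ x ∈ A, g * x * g⁻¹ ∈ A := by
    intro g hg x hx
    have hgn := Subgroup.mem_normalizer_iff.mp hg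
    have hxn := Subgroup.mem_normalizer_iff.mp (hA hx)
    by_cases hxc : x ∈ cen a
    · rcases normalizer_cases ha hgn with h | ⟨-, h⟩
      · rw [cen_comm (ne_one_of_not_isUni ha) h hxc, mul_inv_cancel_right]; exact hx
      · rw [h x hxc]; exact inv_mem hx
    · rcases hsq with hsq | hsq
      · exact absurd (hsq hx) hxc
      obtain ⟨-, hinv⟩ := (normalizer_cases ha hxn).resolve_left hxc
      have hcase : ∀ k ∈ cen a, k * x * k⁻¹ ∈ A := fun k hk => by
        have h1 : x * k⁻¹ = k * x := by
          have h := hinv k⁻¹ (inv_mem hk)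
          rw [inv_inv, mul_inv_eq_iff_eq_mul] at h
          exact h
        rw [mul_assoc, h1, ← mul_assoc]
        exact mul_mem (hsq k hk) hx
      by_cases hgc : g ∈ cen a
      · exact hcase g hgc
      · have hk := inverter_mul_mem ha hgn hxn hgc hxc
        have := hcase _ hk
        rwa [show g * x * x * (g * x)⁻¹ = g * x * g⁻¹ by group] at this
  refine Subgroup.mem_normalizer_iff.mpr fun x => ⟨key g hg x, fun h => ?_⟩
  have := key g⁻¹ (inv_mem hg) _ h
  rwa [show g⁻¹ * (g * x * g⁻¹) * g⁻¹⁻¹ = x by group] at this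

theorem of_le_torus (hF : Fintype.card F = 13) {A : Subgroup P2} (hA : ¬ A.Normal) {b : P2}
    (hb : ¬ IsUni b) (hle : A ≤ cen b) : IsCoatom (Subgroup.normalizer (A : Set P2)) :=
  coatom_of_le (coatom_torus hF hb)
    (le_normalizer_of_squares hb (hle.trans Subgroup.le_normalizer) (Or.inl hle))
    (normalizer_ne_top hF hA)

theorem of_inBorel (hF : Fintype.card F = 13) {A : Subgroup P2} (hA : ¬ A.Normal)
    (hle : A ≤ borel F) : IsCoatom (Subgroup.normalizer (A : Set P2)) := by
  haveI : Fact (Nat.Prime 13) := ⟨by norm_num⟩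
  haveI := charP_thirteen hF
  obtain ⟨χ, hχ⟩ := exists_diagonal_hom (F := F)
  set U := cen (stdUni : P2) with hU
  have hUc : Nat.card U = 13 := (card_cen_of_isUni stdUni_ne_one isUni_stdUni).trans hF
  by_cases hI : ∀ x ∈ A, x ∈ U → x = 1
  · have hinj : Function.Injective (χ.comp (Subgroup.inclusion hle)) := by
      rw [injective_iff_map_eq_one]
      exact fun x hx => Subtype.ext (hI x x.2 ((hχ _).mp hx))
    haveI : IsCyclic ↥A := isCyclic_of_injective _ hinj
    obtain ⟨g, hg⟩ := IsCyclic.exists_generator (α := ↥A)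
    have hg1 : g ≠ 1 := fun e => hA (by
      have : A = ⊥ := (Subgroup.eq_bot_iff_forall A).mpr fun x hx => by
        have := hg ⟨x, hx⟩
        rw [e, Subgroup.zpowers_one_eq_bot, Subgroup.mem_bot] at this
        exact congrArg Subtype.val this
      rw [this]; infer_instance)
    have hu : ¬ IsUni (g : P2) := fun hu => hg1 (hinj (by
      rw [map_one]
      refine orderOf_eq_one_iff.mp (Nat.eq_one_of_dvd_coprimes (show Nat.Coprime 13 12 by norm_num)
        ?_ ?_)
      · refine orderOf_dvd_of_pow_eq_one ?_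
        rw [← map_pow, show g ^ 13 = 1 from Subtype.ext (pow_char_eq_one_of_isUni 13 hu), map_one]
      · have h := orderOf_dvd_natCard (G := Fˣ) (χ.comp (Subgroup.inclusion hle) g)
        rwa [Nat.card_units, Nat.card_eq_fintype_card, hF] at h))
    refine of_le_torus hF hA hu fun x hx => ?_
    obtain ⟨i, hi⟩ := Subgroup.mem_zpowers_iff.mp (hg ⟨x, hx⟩)
    rw [show x = (g : P2) ^ i from (congrArg Subtype.val hi).symm]
    exact zpow_mem (mem_cen_self _) i
  · push Not at hI
    obtain ⟨u, huA, huU, hu1⟩ := hI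
    have hUA : U ≤ A := by
      have : Subgroup.zpowers u = U := by
        refine Subgroup.eq_of_le_of_card_ge (Subgroup.zpowers_le.mpr huU) ?_
        rw [hUc, Nat.card_zpowers]
        have := Subgroup.orderOf_dvd_natCard U huU
        rw [hUc] at this
        rcases (Nat.dvd_prime (by norm_num)).mp this with h | h
        · exact absurd (orderOf_eq_one_iff.mp h) hu1
        · rw [h]
      rw [← this]
      exact Subgroup.zpowers_le.mpr huA
    refine coatom_of_le (isCoatom_borel (by omega) (by rw [hF]; decide)) ?_ (normalizer_ne_top hF hA)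
    intro b hb
    have key : ∀ b ∈ borel F, ∀ x ∈ A, b * x * b⁻¹ ∈ A := fun b hb x hx => by
      have h1 : b * x * b⁻¹ * x⁻¹ ∈ A := by
        refine hUA ((hχ (⟨b, hb⟩ * ⟨x, hle hx⟩ * ⟨b, hb⟩⁻¹ * ⟨x, hle hx⟩⁻¹)).mp ?_)
        rw [map_mul, map_mul, map_mul, map_inv, map_inv, mul_right_comm (χ ⟨b, hb⟩),
          mul_inv_cancel, one_mul, mul_inv_cancel]
      simpa using mul_mem h1 hx
    refine Subgroup.mem_normalizer_iff.mpr fun x => ⟨key b hb x, fun h => ?_⟩
    have := key b⁻¹ (inv_mem hb) _ h
    rwa [show b⁻¹ * (b * x * b⁻¹) * b⁻¹⁻¹ = x by group] at this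

theorem isCoatom_of_map_conj (g : P2) {A : Subgroup P2}
    (h : IsCoatom (Subgroup.normalizer ((A.map (MulAut.conj g).toMonoidHom) : Set P2))) :
    IsCoatom (Subgroup.normalizer (A : Set P2)) := by
  rw [← Subgroup.map_equiv_normalizer_eq A (MulAut.conj g)] at h
  exact ((MulAut.conj g).mapSubgroup.isCoatom_iff _).mp h

theorem isCoatom_normalizer_psl (hF : Fintype.card F = 13) (A : Subgroup P2) (hA : ¬ A.Normal) :
    IsCoatom (Subgroup.normalizer (A : Set P2)) := by
  classical
  haveI : Fact (Nat.Prime 13) := ⟨by norm_num⟩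
  haveI := charP_thirteen hF
  have hodd : Odd (Fintype.card F) := by rw [hF]; decide
  have h1092 := card_psl hF
  have hdvd := Subgroup.card_subgroup_dvd_card A
  rw [h1092] at hdvd
  have hA4 : ∀ H : Subgroup P2, Nonempty (H ≃* alternatingGroup (Fin 4)) → IsCoatom H :=
    fun H ⟨e⟩ => isCoatom_altFour 13 hF (by norm_num) (by norm_num) (by norm_num) e
  rcases shape 13 A with ⟨g, hg⟩ | ⟨a, ha, hle⟩ | h | ⟨⟨e⟩⟩ | ⟨⟨e⟩⟩ | h
  · refine isCoatom_of_map_conj g (of_inBorel hF (fun hn => hA ?_) ?_)
    · have := hn.comap (MulAut.conj g).toMonoidHom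
      rwa [Subgroup.comap_map_eq_self_of_injective (MulAut.conj g).injective] at this
    · rintro _ ⟨x, hx, rfl⟩
      exact hg x hx
  · by_cases hAc : A ≤ cen a
    · exact of_le_torus hF hA ha hAc
    set C := A ⊓ cen a with hC
    obtain ⟨s, hsA, hsc⟩ := Set.not_subset.mp hAc
    have hinv : ∀ x ∈ A, x ∉ cen a → x * x = 1 := fun x hx hxc =>
      ((normalizer_cases ha (Subgroup.mem_normalizer_iff.mp (hle hx))).resolve_left hxc).1
    have hprod : ∀ x ∈ A, x ∉ cen a → s * x ∈ C := fun x hx hxc => ⟨mul_mem hsA hx,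
      inverter_mul_mem ha (Subgroup.mem_normalizer_iff.mp (hle hsA))
        (Subgroup.mem_normalizer_iff.mp (hle hx)) hsc hxc⟩
    have hAcard : Nat.card ↥A ≤ 2 * Nat.card ↥C := by
      have h1 : (C.subgroupOf A).index ≤ 2 := by
        refine le_of_eq ?_
        rw [Subgroup.index_eq_two_iff]
        refine ⟨⟨s, hsA⟩, fun x => ?_⟩
        by_cases hxc : (x : P2) ∈ cen a
        · refine Or.inr ⟨⟨x.2, hxc⟩, fun h => hsc ?_⟩
          simpa using (cen a).mul_mem ((cen a).inv_mem hxc) h.2
        · refine Or.inl ⟨⟨mul_mem x.2 hsA, inverter_mul_mem ha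
            (Subgroup.mem_normalizer_iff.mp (hle x.2)) (Subgroup.mem_normalizer_iff.mp (hle hsA))
            hxc hsc⟩, fun h => hxc h.2⟩
      have h2 := (C.subgroupOf A).card_mul_index
      rw [Nat.card_congr (Subgroup.subgroupOfEquivOfLe (inf_le_left : C ≤ A)).toEquiv] at h2
      rw [← h2, mul_comm]
      exact Nat.mul_le_mul_right _ h1
    have hcd : Nat.card ↥C ∣ Nat.card (cen a) := Subgroup.card_dvd_of_le inf_le_right
    have hcases : Nat.card ↥C = 1 ∨ Nat.card ↥C = 2 ∨
        (∀ g ∈ cen a, g * g ∈ A) := by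
      by_cases h1 : Nat.card ↥C = 1
      · exact Or.inl h1
      by_cases h2 : Nat.card ↥C = 2
      · exact Or.inr (Or.inl h2)
      refine Or.inr (Or.inr fun g hg => (mem_of_pow_card_eq_one (isCyclic_cen ha)
        (inf_le_right : C ≤ cen a) (mul_mem hg hg) ?_ : g * g ∈ C).1)
      have hg' : g ^ Nat.card (cen a) = 1 :=
        congrArg Subtype.val (pow_card_eq_one' (x := (⟨g, hg⟩ : cen a)))
      have hm : Nat.card (cen a) ∣ 2 * Nat.card ↥C := by
        rcases card_torus hF ha with h | h <;> rw [h] at hcd ⊢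
        · have := Nat.le_of_dvd (by norm_num) hcd
          interval_cases hc : Nat.card ↥C <;> omega
        · rcases (Nat.dvd_prime (by norm_num)).mp hcd with h' | h'
          · exact absurd h' h1
          · rw [h']; norm_num
      rw [← pow_two, ← pow_mul]
      exact orderOf_dvd_iff_pow_eq_one.mp ((orderOf_dvd_of_pow_eq_one hg').trans hm)
    rcases hcases with h | h | h
    · -- a subgroup of order two
      have hs2 := hinv s hsA hsc
      have hs1 : s ≠ 1 := fun e => hsc (e ▸ one_mem _)
      have hsu : ¬ IsUni s := fun hu => hs1 (by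
        have h13 := pow_char_eq_one_of_isUni 13 hu
        rwa [show s ^ 13 = (s * s) ^ 6 * s by rw [← pow_two, ← pow_mul, ← pow_succ], hs2, one_pow,
          one_mul] at h13)
      refine of_le_torus hF hA hsu fun x hx => ?_
      by_cases hxc : x ∈ cen a
      · rw [show x = 1 from Subgroup.mem_bot.mp ((Subgroup.card_eq_one.mp h) ▸
          (⟨hx, hxc⟩ : x ∈ C))]
        exact one_mem _
      · have h1 : s * x = 1 :=
          Subgroup.mem_bot.mp ((Subgroup.card_eq_one.mp h) ▸ hprod x hx hxc)
        rw [show x = s⁻¹ from (inv_eq_of_mul_eq_one_right h1).symm]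
        exact inv_mem (mem_cen_self s)
    · -- four groups
      have hCs : ∀ x ∈ C, x * x = 1 := fun x hx => by
        have := congrArg Subtype.val (pow_card_eq_one' (x := (⟨x, hx⟩ : ↥C)))
        rwa [h, SubmonoidClass.coe_pow, pow_two] at this
      have hsq : ∀ x : ↥A, x * x = 1 := fun x => Subtype.ext (by
        by_cases hxc : (x : P2) ∈ cen a
        · exact hCs _ ⟨x.2, hxc⟩
        · exact hinv _ x.2 hxc)
      have h4 : Nat.card ↥A = 4 := by
        have h2 : Nat.card ↥C < Nat.card ↥A := by
          refine lt_of_le_of_ne (Subgroup.card_le_of_le inf_le_left) fun he => hsc ?_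
          have hCA : C = A := Subgroup.eq_of_le_of_card_ge inf_le_left he.ge
          have hm : s ∈ C := by
            rw [hCA]
            exact hsA
          exact hm.2
        have h3 : 2 ∣ Nat.card ↥A := (dvd_of_eq h.symm).trans (Subgroup.card_dvd_of_le (inf_le_left : C ≤ A))
        omega
      haveI : Nontrivial ↥A := Finite.one_lt_card_iff_nontrivial.mp (by omega)
      haveI : IsKleinFour ↥A := ⟨h4, by
        refine le_antisymm (Nat.le_of_dvd two_pos (Monoid.exponent_dvd_of_forall_pow_eq_one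
          fun x => by rw [pow_two]; exact hsq x)) ?_
        by_contra hlt
        have h0 : Monoid.exponent ↥A ≠ 0 := Monoid.exponent_ne_zero_of_finite
        have h1 : Monoid.exponent ↥A = 1 := by omega
        exact not_subsingleton ↥A (Monoid.exp_eq_one_iff.mp h1)⟩
      exact hA4 _ ((H34.normalizer_equiv hodd A).2 (not_square_two hF))
    · exact coatom_of_le (coatom_torus hF ha) (le_normalizer_of_squares ha hle (Or.inr h))
        (normalizer_ne_top hF hA)
  · exact coatom_of_le (hA4 A h) Subgroup.le_normalizer (normalizer_ne_top hF hA)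
  · rw [Nat.card_congr e.toEquiv, card_sym_four] at hdvd
    omega
  · rw [Nat.card_congr e.toEquiv, card_alt_five] at hdvd
    omega
  · exact absurd (h.eq_top_of_prime_card (hF ▸ (by norm_num : Nat.Prime 13)))
      (fun e => hA (e ▸ inferInstance))

end Cfsg.Agent.H65.PSLThirteen
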